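import Groth.Agent.WeilIdem.Chart
import Groth.Agent.OverRep.Basic

/-!
Clopen subsets of a finite locally free scheme form an étale separated scheme over the base.
-/

set_option autoImplicit false
set_option linter.style.haveILetI false
set_option backward.isDefEq.respectTransparency false
set_option backward.isDefEq.respectTransparency.types false
set_option maxHeartbeats 1000000

universe u

open CategoryTheory Limits AlgebraicGeometry Opposite

noncomputable section

namespace Groth.Agent.WeilIdem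

variable {S S' : Scheme.{u}} (g : S' ⟶ S) [IsFinite g] [Flat g] [LocallyOfFinitePresentation g]

theorem exists_rep :
    ∃ R : Over S, Etale R.hom ∧ IsSeparated R.hom ∧ Nonempty ((F g).RepresentableBy R) := by
  let ι := S.affineOpens
  choose Z e hEt hSep hrange hbij using fun i : ι => exists_chart (g := g) i.2
  let O : ∀ (i : ι) (T : Over S), (F g).obj (op T) → T.left.Opens := fun i T _ => T.hom ⁻¹ᵁ i.1
  obtain ⟨R, ⟨hR⟩⟩ := OverRep.exists_representableBy (isSheaf_F g) Z e O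
    (fun i T x T' t => ⟨fun h => (hbij i T' (by
        rw [← Over.w t]
        rintro _ ⟨z, rfl⟩
        exact h ⟨z, rfl⟩)).2 ((F g).map t.op x),
      fun ⟨q, _⟩ => by
        rintro _ ⟨z, rfl⟩
        show T.hom (t.left z) ∈ (i.1 : Set S)
        rw [← Scheme.Hom.comp_apply, Over.w t, ← Over.w q]
        exact hrange i ⟨_, rfl⟩⟩)
    (fun i T q q' h => (hbij i T (by
        rw [← Over.w q]
        rintro _ ⟨z, rfl⟩
        exact hrange i ⟨_, rfl⟩)).1 h)
    (fun T x p => by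
      obtain ⟨W, hW, hpW, -⟩ := exists_isAffineOpen_mem_and_subset (U := (⊤ : S.Opens)) (x := T.hom p) trivial
      exact ⟨⟨W, hW⟩, hpW⟩)
  let z := hR.homEquiv (𝟙 R)
  have hz : ∀ {T : Over S} (a : T ⟶ R), hR.homEquiv a = (F g).map a.op z := fun a => hR.homEquiv_eq a
  have hiso : ∀ i : ι, ∃ k : (↑(R.hom ⁻¹ᵁ i.1) : Scheme.{u}) ⟶ (Z i).left,
      IsIso k ∧ k ≫ (Z i).hom = (R.hom ⁻¹ᵁ i.1).ι ≫ R.hom := by
    intro i
    let V : R.left.Opens := R.hom ⁻¹ᵁ i.1
    let o : Over.mk (V.ι ≫ R.hom) ⟶ R := Over.homMk V.ι rfl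
    have hV : Set.range (Over.mk (V.ι ≫ R.hom)).hom ⊆ (i.1 : Set S) := by
      rintro _ ⟨p, rfl⟩
      exact p.2
    obtain ⟨q, hq⟩ := (hbij i _ hV).2 ((F g).map o.op z)
    let r : Z i ⟶ R := hR.homEquiv.symm (e i)
    have hr : (F g).map r.op z = e i := by rw [← hz, Equiv.apply_symm_apply]
    have hrV : Set.range r.left ⊆ Set.range V.ι := by
      rw [Scheme.Opens.range_ι]
      rintro _ ⟨p, rfl⟩
      show R.hom (r.left p) ∈ (i.1 : Set S)
      rw [← Scheme.Hom.comp_apply, Over.w r]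
      exact hrange i ⟨p, rfl⟩
    let r' : Z i ⟶ Over.mk (V.ι ≫ R.hom) := Over.homMk (IsOpenImmersion.lift V.ι r.left hrV) (by
      show IsOpenImmersion.lift V.ι r.left hrV ≫ V.ι ≫ R.hom = (Z i).hom
      rw [IsOpenImmersion.lift_fac_assoc]
      exact Over.w r)
    have hr' : r' ≫ o = r := Over.OverMorphism.ext (IsOpenImmersion.lift_fac _ _ _)
    have h1 : r' ≫ q = 𝟙 (Z i) := (hbij i _ (hrange i)).1 (by
      show (F g).map (r' ≫ q).op (e i) = (F g).map (𝟙 (Z i)).op (e i)
      rw [map_comp_apply, show (F g).map q.op (e i) = _ from hq, ← map_comp_apply, hr', hr, op_id,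
        Functor.map_id_apply])
    have h2 : q ≫ r = o := hR.homEquiv.injective (by rw [hz, hz, map_comp_apply, hr]; exact hq)
    have h3 : q.left ≫ r'.left = 𝟙 _ := (cancel_mono V.ι).1 (by
      rw [Category.assoc, Category.id_comp]
      show q.left ≫ IsOpenImmersion.lift V.ι r.left hrV ≫ V.ι = V.ι
      rw [IsOpenImmersion.lift_fac]
      exact congrArg Over.Hom.left h2)
    exact ⟨q.left, ⟨r'.left, h3, congrArg Over.Hom.left h1⟩, Over.w q⟩
  refine ⟨R, ?_, ?_, ⟨hR⟩⟩
  · refine IsZariskiLocalAtTarget.of_iSup_eq_top (fun i : ι => i.1) (iSup_affineOpens_eq_top S) fun i => ?_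
    obtain ⟨k, hk, hk'⟩ := hiso i
    haveI := hEt i
    haveI : Etale ((R.hom ∣_ i.1) ≫ i.1.ι) := by
      rw [morphismRestrict_ι, ← hk']
      infer_instance
    exact Etale.of_comp _ i.1.ι
  · refine IsZariskiLocalAtTarget.of_iSup_eq_top (fun i : ι => i.1) (iSup_affineOpens_eq_top S) fun i => ?_
    obtain ⟨k, hk, hk'⟩ := hiso i
    haveI := hSep i
    haveI : IsSeparated ((R.hom ∣_ i.1) ≫ i.1.ι) := by
      rw [morphismRestrict_ι, ← hk']
      infer_instance
    exact IsSeparated.of_comp _ i.1.ι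

omit [IsFinite g] [Flat g] [LocallyOfFinitePresentation g] in
/-- The preimage of a clopen point. -/
theorem clopen_map {T T' : Over S} (t : T' ⟶ T) (x : (F g).obj (op T)) :
    clopen ((F g).map t.op x) = ((Over.pullback g).map t).left.base ⁻¹' clopen x :=
  clopen_comp _ _

theorem main {S₀ : Scheme.{u}} (i : S₀ ⟶ S)
    (hb : ∀ (S'' : Scheme.{u}) (h : S'' ⟶ S), Etale h → IsSeparated h →
      ∀ u₀ : S₀ ⟶ pullback h i, u₀ ≫ pullback.snd h i = 𝟙 S₀ →
        ∃! u : S ⟶ S'', u ≫ h = 𝟙 S ∧ i ≫ u = u₀ ≫ pullback.fst h i)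
    (V : Set ↥(pullback g i)) (hV : IsClopen V) :
    ∃! U : Set ↥S', IsClopen U ∧ (pullback.fst g i).base ⁻¹' U = V := by
  obtain ⟨R, hEt, hSep, ⟨hR⟩⟩ := exists_rep g
  let z := hR.homEquiv (𝟙 R)
  have hz : ∀ {T : Over S} (a : T ⟶ R), hR.homEquiv a = (F g).map a.op z := fun a => hR.homEquiv_eq a
  let T₀ : Over S := Over.mk i
  let T₁ : Over S := Over.mk (𝟙 S)
  let t : T₀ ⟶ T₁ := Over.homMk i (Category.comp_id i)
  let σ := pullbackSymmetry g i
  let p₁ : pullback (𝟙 S) g ⟶ S' := pullback.snd _ _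
  haveI : IsIso p₁ := pullback_snd_iso_of_left_iso _ _
  have hfst : pullback.fst g i ≫ inv p₁ = σ.hom ≫ ((Over.pullback g).map t).left := by
    rw [IsIso.comp_inv_eq, Category.assoc]
    show _ = σ.hom ≫ pullback.lift _ _ _ ≫ pullback.snd _ _
    rw [pullback.lift_snd]
    exact (pullbackSymmetry_hom_comp_snd g i).symm
  -- restriction of a clopen point over the base
  have hrestr : ∀ x : (F g).obj (op T₁),
      (pullback.fst g i).base ⁻¹' clopen (inv p₁ ≫ x) = σ.hom.base ⁻¹' clopen ((F g).map t.op x) := fun x => by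
    rw [← clopen_comp, reassoc_of% hfst, clopen_comp]
    rfl
  obtain ⟨x₀, hx₀⟩ := exists_clopen_eq (hV.preimage σ.inv.continuous)
  have hsurj : ∀ A : Set ↥(pullback i g), σ.hom.base ⁻¹' A = V ↔ A = σ.inv.base ⁻¹' V := fun A => by
    constructor
    · rintro rfl
      rw [← Set.preimage_comp, ← TopCat.coe_comp, ← Scheme.Hom.comp_base, σ.inv_hom_id]
      rfl
    · rintro rfl
      rw [← Set.preimage_comp, ← TopCat.coe_comp, ← Scheme.Hom.comp_base, σ.hom_inv_id]
      rfl
  let a : T₀ ⟶ R := hR.homEquiv.symm x₀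
  have ha : (F g).map a.op z = x₀ := by rw [← hz, Equiv.apply_symm_apply]
  let u₀ : S₀ ⟶ pullback R.hom i := pullback.lift a.left (𝟙 S₀) (by rw [Category.id_comp]; exact Over.w a)
  obtain ⟨u, ⟨hu₁, hu₂⟩, huniq⟩ := hb R.left R.hom hEt hSep u₀ (pullback.lift_snd _ _ _)
  rw [pullback.lift_fst] at hu₂
  let uO : T₁ ⟶ R := Over.homMk u hu₁
  have hta : t ≫ uO = a := Over.OverMorphism.ext hu₂
  refine ⟨clopen (inv p₁ ≫ (F g).map uO.op z), ⟨isClopen_clopen _, ?_⟩, ?_⟩
  · rw [hrestr, ← map_comp_apply, hta, ha, hsurj]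
    exact hx₀
  · rintro U ⟨hU, hUV⟩
    obtain ⟨x, rfl⟩ := exists_clopen_eq hU
    let q : T₁ ⟶ R := hR.homEquiv.symm (p₁ ≫ x)
    have hq : (F g).map q.op z = p₁ ≫ x := by rw [← hz, Equiv.apply_symm_apply]
    have hx : inv p₁ ≫ (F g).map q.op z = x := by rw [hq, IsIso.inv_hom_id_assoc]
    rw [← hx] at hUV
    rw [hrestr, hsurj, ← hx₀] at hUV
    have hqa : t ≫ q = a := hR.homEquiv.injective (by
      rw [hz, hz, ha, map_comp_apply]
      exact clopen_injective hUV)
    have hqu : q.left = u := huniq q.left ⟨Over.w q, by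
      rw [pullback.lift_fst]
      exact congrArg Over.Hom.left hqa⟩
    rw [← hx, show q = uO from Over.OverMorphism.ext hqu]

end Groth.Agent.WeilIdem
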