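import Groth.Agent.WeilIdem.Points
import Groth.Agent.S2810
import Mathlib.AlgebraicGeometry.Morphisms.Finite
import Mathlib.AlgebraicGeometry.Morphisms.Etale
import Mathlib.AlgebraicGeometry.Morphisms.Flat
import Mathlib.RingTheory.Finiteness.ModuleFinitePresentation
import Mathlib.RingTheory.Flat.EquationalCriterion
import Mathlib.Algebra.Category.Ring.Constructions

/-!
Clopen subsets of a finite locally free scheme are points of an étale scheme over each affine open of the base.
-/

set_option autoImplicit false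
set_option linter.style.haveILetI false
set_option backward.isDefEq.respectTransparency false
set_option backward.isDefEq.respectTransparency.types false
set_option maxHeartbeats 1000000

universe u

open CategoryTheory Limits AlgebraicGeometry Opposite
open scoped TensorProduct

noncomputable section

namespace Groth.Agent.WeilIdem

variable {S S' : Scheme.{u}} (g : S' ⟶ S)

/-- Clopen subsets of the base change, as points of two points. -/
abbrev F : (Over S)ᵒᵖ ⥤ Type u := (Over.pullback g ⋙ Over.forget S').op ⋙ yoneda.obj P₂.{u}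

theorem isSheaf_F : Presheaf.IsSheaf (Scheme.zariskiTopology.over S) (F g) := by
  let Y : Sheaf Scheme.zariskiTopology (Type u) :=
    ⟨yoneda.obj P₂.{u}, (isSheaf_iff_isSheaf_of_type _ _).2 (GrothendieckTopology.Subcanonical.isSheaf_of_isRepresentable _)⟩
  haveI : (Over.pullback g ⋙ Over.forget S').IsContinuous (Scheme.zariskiTopology.over S) Scheme.zariskiTopology :=
    Functor.isContinuous_comp _ _ _ (Scheme.zariskiTopology.over S') _
  exact (Over.pullback g ⋙ Over.forget S').op_comp_isSheaf (Scheme.zariskiTopology.over S) Scheme.zariskiTopology Y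

variable {g}

theorem map_comp_apply {T T' T'' : Over S} (a : T'' ⟶ T') (b : T' ⟶ T) (x : (F g).obj (op T)) :
    (F g).map (a ≫ b).op x = (F g).map a.op ((F g).map b.op x) := by
  rw [op_comp, Functor.map_comp_apply]

theorem exists_chart [IsFinite g] [Flat g] [LocallyOfFinitePresentation g] {W : S.Opens} (hW : IsAffineOpen W) :
    ∃ (Z : Over S) (e : (F g).obj (op Z)), Etale Z.hom ∧ IsSeparated Z.hom ∧ Set.range Z.hom ⊆ (W : Set S) ∧
      ∀ T : Over S, Set.range T.hom ⊆ (W : Set S) → Function.Bijective fun q : T ⟶ Z => (F g).map q.op e := by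
  classical
  have hW' : IsAffineOpen (g ⁻¹ᵁ W) := hW.preimage g
  let A : Type u := Γ(S, W)
  let B : Type u := Γ(S', g ⁻¹ᵁ W)
  letI : Algebra A B := (g.app W).hom.toAlgebra
  haveI : Module.Finite A B := g.finite_app _ hW
  haveI : Module.Flat A B := by
    have := g.flat_appLE hW hW' le_rfl
    rwa [Scheme.Hom.appLE_eq_app] at this
  haveI : Algebra.FinitePresentation A B := by
    have := LocallyOfFinitePresentation.finitePresentation_appLE g hW hW' le_rfl
    rwa [Scheme.Hom.appLE_eq_app] at this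
  haveI : Module.FinitePresentation A B := Module.FinitePresentation.of_finite_of_finitePresentation A B
  haveI : Module.Projective A B := Module.Flat.projective_of_finitePresentation
  obtain ⟨E, _, _, e₀, hEt, he₀, huniv⟩ := Groth.Agent.S2810.result A B
  let Z : Over S := Over.mk (Spec.map (CommRingCat.ofHom (algebraMap A E)) ≫ hW.fromSpec)
  have sq : IsPullback (Spec.map (CommRingCat.ofHom (algebraMap A B))) hW'.fromSpec hW.fromSpec g := by
    refine IsOpenImmersion.isPullback _ _ _ _ ?_ ?_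
    · show hW'.fromSpec ≫ g = Spec.map (g.app W) ≫ hW.fromSpec
      rw [← IsAffineOpen.SpecMap_appLE_fromSpec g hW hW' le_rfl, Scheme.Hom.appLE_eq_app]
    · apply TopologicalSpace.Opens.ext
      simp only [Scheme.Hom.coe_opensRange, Scheme.Hom.coe_preimage]
      erw [IsAffineOpen.range_fromSpec, IsAffineOpen.range_fromSpec]
      rfl
  -- the base change of a spectrum over the open is the spectrum of the tensor product
  have hc : ∀ (C : Type u) [CommRing C] [Algebra A C],
      ∃ c : Spec (CommRingCat.of (C ⊗[A] B)) ⟶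
          pullback (Spec.map (CommRingCat.ofHom (algebraMap A C)) ≫ hW.fromSpec) g,
        IsIso c ∧ c ≫ pullback.fst _ _ = Spec.map (CommRingCat.ofHom (Algebra.TensorProduct.includeLeftRingHom : C →+* C ⊗[A] B)) ∧
          c ≫ pullback.snd _ _ =
            Spec.map (CommRingCat.ofHom ((Algebra.TensorProduct.includeRight : B →ₐ[A] C ⊗[A] B) : B →+* C ⊗[A] B)) ≫
              hW'.fromSpec := by
    intro C _ _
    have h1 : IsPullback (Spec.map (CommRingCat.ofHom (Algebra.TensorProduct.includeLeftRingHom : C →+* C ⊗[A] B)))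
        (Spec.map (CommRingCat.ofHom ((Algebra.TensorProduct.includeRight : B →ₐ[A] C ⊗[A] B) : B →+* C ⊗[A] B)))
        (Spec.map (CommRingCat.ofHom (algebraMap A C))) (Spec.map (CommRingCat.ofHom (algebraMap A B))) :=
      isPullback_SpecMap_of_isPushout _ _ _ _ (CommRingCat.isPushout_tensorProduct A C B)
    exact ⟨(h1.paste_vert sq).isoPullback.hom, inferInstance, IsPullback.isoPullback_hom_fst _,
      IsPullback.isoPullback_hom_snd _⟩
  obtain ⟨cE, hcEi, hcE₁, hcE₂⟩ := hc E
  obtain ⟨x₀, hx₀⟩ := (bijective_spec (CommRingCat.of (E ⊗[A] B))).2 ⟨e₀, he₀⟩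
  let e : (F g).obj (op Z) := inv cE ≫ x₀
  refine ⟨Z, e, ?_, inferInstanceAs (IsSeparated (_ ≫ _)), ?_, ?_⟩
  · haveI : Etale (Spec.map (CommRingCat.ofHom (algebraMap A E))) := by
      rw [HasRingHomProperty.Spec_iff (P := @Etale)]
      exact RingHom.etale_algebraMap.2 hEt
    exact inferInstanceAs (Etale (_ ≫ _))
  · rintro _ ⟨z, rfl⟩
    rw [← hW.range_fromSpec]
    exact ⟨_, rfl⟩
  have aff : ∀ (C : CommRingCat.{u}) (t : Spec C ⟶ S), Set.range t ⊆ (W : Set S) →
      Function.Bijective fun q : Over.mk t ⟶ Z => (F g).map q.op e := by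
    intro C t ht
    obtain ⟨t', rfl⟩ : ∃ t' : Spec C ⟶ Spec Γ(S, W), t' ≫ hW.fromSpec = t :=
      ⟨IsOpenImmersion.lift hW.fromSpec t (by rw [hW.range_fromSpec]; exact ht), IsOpenImmersion.lift_fac _ _ _⟩
    obtain ⟨φ, rfl⟩ := Spec.map_surjective t'
    letI : Algebra A C := φ.hom.toAlgebra
    obtain ⟨cC, hcCi, hcC₁, hcC₂⟩ := hc C
    let τ : (E →ₐ[A] C) → (Over.mk (Spec.map φ ≫ hW.fromSpec) ⟶ Z) := fun ψ =>
      Over.homMk (Spec.map (CommRingCat.ofHom ψ.toRingHom)) (by
        show Spec.map _ ≫ Spec.map _ ≫ hW.fromSpec = Spec.map φ ≫ hW.fromSpec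
        rw [← Spec.map_comp_assoc]
        congr 2
        exact CommRingCat.hom_ext ψ.comp_algebraMap)
    have hτ : Function.Surjective τ := by
      intro q
      obtain ⟨ψ, hψ⟩ := Spec.map_surjective q.left
      have hw : Spec.map (CommRingCat.ofHom (algebraMap A E) ≫ ψ) = Spec.map φ := by
        rw [Spec.map_comp, hψ, ← cancel_mono hW.fromSpec, Category.assoc]
        exact Over.w q
      refine ⟨⟨ψ.hom, fun r => congr($(Spec.map_injective hw).hom r)⟩, Over.OverMorphism.ext ?_⟩
      exact hψ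
    have key : ∀ ψ : E →ₐ[A] C, (Scheme.ΓSpecIso (CommRingCat.of (C ⊗[A] B))).hom (idem (cC ≫ (F g).map (τ ψ).op e)) =
        Algebra.TensorProduct.map ψ (AlgHom.id A B) e₀ := by
      intro ψ
      have h1 : cC ≫ ((Over.pullback g).map (τ ψ)).left =
          Spec.map (CommRingCat.ofHom (Algebra.TensorProduct.map ψ (AlgHom.id A B)).toRingHom) ≫ cE := by
        refine pullback.hom_ext ?_ ?_
        · rw [Category.assoc, Category.assoc]
          show cC ≫ pullback.lift _ _ _ ≫ pullback.fst _ _ = _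
          rw [pullback.lift_fst]
          refine ((Category.assoc _ _ _).symm.trans (congrArg (· ≫ Spec.map (CommRingCat.ofHom ψ.toRingHom)) hcC₁)).trans
            (Eq.trans ?_ (congrArg (Spec.map (CommRingCat.ofHom (Algebra.TensorProduct.map ψ (AlgHom.id A B)).toRingHom) ≫ ·) hcE₁).symm)
          rw [← Spec.map_comp, ← Spec.map_comp]
          congr 1
        · rw [Category.assoc, Category.assoc]
          show cC ≫ pullback.lift _ _ _ ≫ pullback.snd _ _ = _
          rw [pullback.lift_snd]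
          refine hcC₂.trans (Eq.trans ?_ (congrArg (Spec.map (CommRingCat.ofHom (Algebra.TensorProduct.map ψ (AlgHom.id A B)).toRingHom) ≫ ·) hcE₂).symm)
          rw [← Spec.map_comp_assoc]
          congr 2
          refine CommRingCat.hom_ext (RingHom.ext fun b => ?_)
          exact (congrArg (fun z => z ⊗ₜ[A] b) (map_one ψ)).symm
      show (Scheme.ΓSpecIso _).hom (idem (cC ≫ ((Over.pullback g).map (τ ψ)).left ≫ inv cE ≫ x₀)) = _
      rw [reassoc_of% h1, IsIso.hom_inv_id_assoc, idem_comp]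
      refine (congr($(Scheme.ΓSpecIso_naturality
        (CommRingCat.ofHom (Algebra.TensorProduct.map ψ (AlgHom.id A B)).toRingHom)).hom (idem x₀))).trans ?_
      exact congrArg (Algebra.TensorProduct.map ψ (AlgHom.id A B)) (congrArg Subtype.val hx₀)
    refine ⟨fun q q' h => ?_, fun x => ?_⟩
    · obtain ⟨ψ, rfl⟩ := hτ q
      obtain ⟨ψ', rfl⟩ := hτ q'
      have h' : (F g).map (τ ψ).op e = (F g).map (τ ψ').op e := h
      refine congrArg τ ((huniv C _ (he₀.map (Algebra.TensorProduct.map ψ (AlgHom.id A B)))).unique rfl ?_)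
      rw [← key, ← key, h']
    · obtain ⟨ψ, hψ, -⟩ := huniv C ((Scheme.ΓSpecIso (CommRingCat.of (C ⊗[A] B))).hom (idem (cC ≫ x)))
        ((isIdempotentElem_idem _).map (Scheme.ΓSpecIso _).hom.hom)
      refine ⟨τ ψ, (cancel_epi cC).1 ((bijective_spec _).1 (Subtype.ext ?_))⟩
      exact (key ψ).trans hψ
  have inj : ∀ T : Over S, Set.range T.hom ⊆ (W : Set S) → Function.Injective fun q : T ⟶ Z => (F g).map q.op e := by
    intro T hT a b hab
    refine Over.OverMorphism.ext (Scheme.Cover.hom_ext T.left.affineOpenCover.openCover _ _ fun i => ?_)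
    let t : Over.mk (T.left.affineOpenCover.openCover.f i ≫ T.hom) ⟶ T := Over.homMk (T.left.affineOpenCover.openCover.f i) rfl
    have h' : t ≫ a = t ≫ b := (aff _ _ (by rintro _ ⟨z, rfl⟩; exact hT ⟨_, rfl⟩)).1 (by
      show (F g).map (t ≫ a).op e = (F g).map (t ≫ b).op e
      rw [map_comp_apply, map_comp_apply]
      exact congrArg _ hab)
    exact congrArg Over.Hom.left h'
  intro T hT
  refine ⟨inj T hT, fun x => ?_⟩
  let 𝒰 := T.left.affineOpenCover.openCover
  let t : ∀ i, Over.mk (𝒰.f i ≫ T.hom) ⟶ T := fun i => Over.homMk (𝒰.f i) rfl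
  choose b hb using fun i => (aff _ (𝒰.f i ≫ T.hom) (by rintro _ ⟨z, rfl⟩; exact hT ⟨_, rfl⟩)).2 ((F g).map (t i).op x)
  have hs : Presieve.IsSheafFor (F g) (Presieve.ofArrows _ t) := by
    refine (Presieve.isSheafFor_iff_generate _).2 ((isSheaf_iff_isSheaf_of_type _ _).1 (isSheaf_F g) _ ?_)
    rw [GrothendieckTopology.mem_over_iff]
    refine GrothendieckTopology.superset_covering _ ?_ 𝒰.mem_grothendieckTopology
    rintro V c ⟨W', a, _, ⟨i⟩, rfl⟩
    rw [Sieve.overEquiv_iff]
    exact ⟨Over.mk (𝒰.f i ≫ T.hom), Over.homMk a (Category.assoc _ _ _).symm, t i, ⟨i⟩, Over.OverMorphism.ext rfl⟩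
  have hcomp : ∀ i j, pullback.fst (𝒰.f i) (𝒰.f j) ≫ (b i).left = pullback.snd _ _ ≫ (b j).left := by
    intro i j
    let O : Over S := Over.mk (pullback.fst (𝒰.f i) (𝒰.f j) ≫ 𝒰.f i ≫ T.hom)
    let p₁ : O ⟶ Over.mk (𝒰.f i ≫ T.hom) := Over.homMk (pullback.fst _ _) rfl
    let p₂ : O ⟶ Over.mk (𝒰.f j ≫ T.hom) := Over.homMk (pullback.snd _ _) (by
      show pullback.snd _ _ ≫ 𝒰.f j ≫ T.hom = pullback.fst _ _ ≫ 𝒰.f i ≫ T.hom
      rw [pullback.condition_assoc])
    have hp : p₁ ≫ t i = p₂ ≫ t j := Over.OverMorphism.ext pullback.condition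
    refine congrArg Over.Hom.left (inj O (by rintro _ ⟨z, rfl⟩; exact hT ⟨_, rfl⟩) (a₁ := p₁ ≫ b i) (a₂ := p₂ ≫ b j) ?_)
    show (F g).map (p₁ ≫ b i).op e = (F g).map (p₂ ≫ b j).op e
    rw [map_comp_apply, map_comp_apply]
    refine (congrArg _ (hb i)).trans (Eq.trans ?_ (congrArg _ (hb j)).symm)
    rw [← map_comp_apply, ← map_comp_apply, hp]
  let a₀ : T.left ⟶ Z.left := Scheme.Cover.glueMorphisms 𝒰 (fun i => (b i).left) hcomp
  have ha : ∀ i, 𝒰.f i ≫ a₀ = (b i).left := fun i => Scheme.Cover.ι_glueMorphisms _ _ _ i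
  let a : T ⟶ Z := Over.homMk a₀ (Scheme.Cover.hom_ext 𝒰 _ _ fun i => by rw [reassoc_of% ha i]; exact Over.w (b i))
  refine ⟨a, hs.isSeparatedFor.ext ?_⟩
  rintro V c ⟨i⟩
  show (F g).map (t i).op ((F g).map a.op e) = (F g).map (t i).op x
  rw [← map_comp_apply, show t i ≫ a = b i from Over.OverMorphism.ext (ha i)]
  exact hb i

end Groth.Agent.WeilIdem
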