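import Groth.Agent.WeilGlue.Affine
import Groth.Agent.HensCouple7.Gamma
import Mathlib.AlgebraicGeometry.GammaSpecAdjunction

/-!
The two-point scheme: its points are idempotent functions, equivalently clopen subsets.
-/

set_option autoImplicit false
set_option linter.style.haveILetI false
set_option backward.isDefEq.respectTransparency false
set_option backward.isDefEq.respectTransparency.types false

universe u

open CategoryTheory Limits AlgebraicGeometry Opposite

noncomputable section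

namespace Groth.Agent.WeilIdem

/-- The ring of functions on two points. -/
abbrev R₂ : CommRingCat.{u} := CommRingCat.of (ULift.{u} ℤ × ULift.{u} ℤ)

/-- Two points. -/
abbrev P₂ : Scheme.{u} := Spec R₂.{u}

/-- The indicator of the first point. -/
abbrev e₁ : Γ(P₂.{u}, ⊤) := (Scheme.ΓSpecIso R₂.{u}).inv (1, 0)

theorem isIdempotentElem_e₁ : IsIdempotentElem e₁.{u} :=
  IsIdempotentElem.map (show IsIdempotentElem ((1, 0) : ULift.{u} ℤ × ULift.{u} ℤ) by
    simp [IsIdempotentElem]) (Scheme.ΓSpecIso R₂.{u}).inv.hom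

/-- The ring map of an idempotent. -/
def idemHom {D : Type u} [CommRing D] {ε : D} (hε : IsIdempotentElem ε) : (ULift.{u} ℤ × ULift.{u} ℤ) →+* D where
  toFun z := (z.1.down : D) * ε + (z.2.down : D) * (1 - ε)
  map_one' := by simp
  map_zero' := by simp
  map_add' x y := by simp only [Prod.fst_add, Prod.snd_add, ULift.add_down, Int.cast_add]; ring
  map_mul' x y := by
    have h : ε * ε = ε := hε
    simp only [Prod.fst_mul, Prod.snd_mul, ULift.mul_down, Int.cast_mul]
    linear_combination -((x.1.down : D) - x.2.down) * ((y.1.down : D) - y.2.down) * h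

theorem idemHom_e {D : Type u} [CommRing D] {ε : D} (hε : IsIdempotentElem ε) : idemHom hε (1, 0) = ε := by
  show ((1 : ℤ) : D) * ε + ((0 : ℤ) : D) * (1 - ε) = ε
  simp

theorem r₂Hom_ext {D : Type u} [CommRing D] {φ ψ : (ULift.{u} ℤ × ULift.{u} ℤ) →+* D} (h : φ (1, 0) = ψ (1, 0)) :
    φ = ψ := by
  refine RingHom.ext fun z => ?_
  have hz : z = z.1.down • ((1, 0) : ULift.{u} ℤ × ULift.{u} ℤ) + z.2.down • (1 - (1, 0)) := by
    refine Prod.ext ?_ ?_ <;> apply ULift.ext <;> simp
  rw [hz, map_add, map_add, map_zsmul, map_zsmul, map_zsmul, map_zsmul, map_sub, map_sub, map_one, map_one, h]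

variable {Y Y' : Scheme.{u}}

/-- The idempotent of a point of two points. -/
def idem (x : Y ⟶ P₂.{u}) : Γ(Y, ⊤) := x.appTop e₁

theorem isIdempotentElem_idem (x : Y ⟶ P₂.{u}) : IsIdempotentElem (idem x) :=
  isIdempotentElem_e₁.map x.appTop.hom

theorem idem_comp (m : Y' ⟶ Y) (x : Y ⟶ P₂.{u}) : idem (m ≫ x) = m.appTop (idem x) := by
  simp only [idem, Scheme.Hom.comp_appTop, CommRingCat.comp_apply]

theorem idem_injective : Function.Injective (idem : (Y ⟶ P₂.{u}) → Γ(Y, ⊤)) := by
  intro x y h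
  refine ext_of_isAffine ?_
  refine (cancel_epi (Scheme.ΓSpecIso R₂.{u}).inv).1 (CommRingCat.hom_ext (r₂Hom_ext ?_))
  exact h

theorem exists_idem_eq {ε : Γ(Y, ⊤)} (hε : IsIdempotentElem ε) : ∃ x : Y ⟶ P₂.{u}, idem x = ε := by
  refine ⟨Y.toSpecΓ ≫ Spec.map (CommRingCat.ofHom (idemHom hε)), ?_⟩
  rw [idem, Scheme.Hom.comp_appTop, Scheme.toSpecΓ_appTop, e₁, ← CommRingCat.comp_apply, ← Category.assoc,
    ← Scheme.ΓSpecIso_inv_naturality, Category.assoc, Iso.inv_hom_id, Category.comp_id]
  exact idemHom_e hε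

/-- The clopen subset of a point of two points. -/
def clopen (x : Y ⟶ P₂.{u}) : Set Y := Y.basicOpen (idem x)

theorem isClopen_clopen (x : Y ⟶ P₂.{u}) : IsClopen (clopen x) :=
  ⟨⟨by
    rw [clopen, ← HensCouple7.basicOpen_compl_of_idem (isIdempotentElem_idem x)]
    exact (Y.basicOpen _).2⟩, (Y.basicOpen _).2⟩

theorem clopen_injective : Function.Injective (clopen : (Y ⟶ P₂.{u}) → Set Y) := fun x y h =>
  idem_injective (HensCouple7.eq_of_basicOpen_eq (isIdempotentElem_idem x) (isIdempotentElem_idem y) h)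

theorem exists_clopen_eq {U : Set Y} (hU : IsClopen U) : ∃ x : Y ⟶ P₂.{u}, clopen x = U := by
  obtain ⟨ε, hε, hU'⟩ := HensCouple7.exists_idempotent_of_isClopen hU
  obtain ⟨x, rfl⟩ := exists_idem_eq hε
  exact ⟨x, hU'⟩

theorem clopen_comp (m : Y' ⟶ Y) (x : Y ⟶ P₂.{u}) : clopen (m ≫ x) = m.base ⁻¹' clopen x := by
  rw [clopen, idem_comp, ← Scheme.preimage_basicOpen_top]
  rfl

/-- Points of two points on a spectrum are idempotents of the ring. -/
theorem bijective_spec (D : CommRingCat.{u}) :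
    Function.Bijective fun x : Spec D ⟶ P₂.{u} =>
      (⟨(Scheme.ΓSpecIso D).hom (idem x), (isIdempotentElem_idem x).map (Scheme.ΓSpecIso D).hom.hom⟩ :
        {e : D // IsIdempotentElem e}) := by
  refine ⟨fun x y h => idem_injective ?_, fun e => ?_⟩
  · exact (ConcreteCategory.bijective_of_isIso (Scheme.ΓSpecIso D).hom).1 (congrArg Subtype.val h)
  · obtain ⟨x, hx⟩ := exists_idem_eq (Y := Spec D) (e.2.map (Scheme.ΓSpecIso D).inv.hom)
    refine ⟨x, Subtype.ext ?_⟩
    show (Scheme.ΓSpecIso D).hom (idem x) = _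
    rw [hx]
    exact congr($((Scheme.ΓSpecIso D).inv_hom_id).hom e.1)

end Groth.Agent.WeilIdem
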